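import Mathlib
import Cfsg.Agent.S0035
import Cfsg.Agent.S0205

/-!
# Affine groups with maximal vector stabilisers

`H` is a non-solvable group acting faithfully and irreducibly on a finite abelian group `V` with
all stabilisers of non-trivial vectors maximal. Then `V` is a 2-group and `H` is almost simple.
-/

set_option linter.unusedSectionVars false

namespace CfsgLib.ExtremelyPrimitive

open MulAction

/-- The hypotheses on `H` and `V`. -/
structure Setting (H V : Type*) [Group H] [CommGroup V] [MulDistribMulAction H V] : Prop where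
  coatom : ∀ v : V, v ≠ 1 → IsCoatom (stabilizer H v)
  irred : ∀ U : Subgroup V, (∀ h : H, ∀ v ∈ U, h • v ∈ U) → U = ⊥ ∨ U = ⊤
  faith : ∀ h : H, (∀ v : V, h • v = v) → h = 1
  nonsolv : ¬ Group.IsSolvable H
  nontriv : ∃ v : V, v ≠ 1

variable {H V : Type*} [Group H] [Finite H] [CommGroup V] [Finite V] [MulDistribMulAction H V]

/-- A subgroup normalised by two subgroups generating the group is normal. -/
theorem normal_of_le_normalizer {A P Q : Subgroup H} (h : P ⊔ Q = ⊤)
    (hP : P ≤ Subgroup.normalizer (A : Set H)) (hQ : Q ≤ Subgroup.normalizer (A : Set H)) :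
    A.Normal :=
  Subgroup.normalizer_eq_top_iff.1 (top_le_iff.1 (h ▸ sup_le hP hQ))

namespace Setting

variable (hS : Setting H V)
include hS

theorem eq_bot_of_le_stabilizer {A : Subgroup H} (hA : A.Normal) {v : V} (hv : v ≠ 1)
    (h : A ≤ stabilizer H v) : A = ⊥ := by
  let U : Subgroup V :=
    { carrier := {u | ∀ a ∈ A, a • u = u}
      one_mem' := fun a _ => smul_one a
      mul_mem' := fun {x y} hx hy a ha => by rw [smul_mul', hx a ha, hy a ha]
      inv_mem' := fun {x} hx a ha => by rw [smul_inv', hx a ha] }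
  rcases hS.irred U (fun g u hu a ha => by
    have h1 := hu (g⁻¹ * a * g) (by simpa using hA.conj_mem a ha g⁻¹)
    rw [mul_smul, mul_smul, inv_smul_eq_iff] at h1
    exact h1) with h1 | h1
  · exact absurd (Subgroup.mem_bot.1 (h1.le (show v ∈ U from fun a ha => h ha))) hv
  · exact (Subgroup.eq_bot_iff_forall A).2 fun a ha =>
      hS.faith a fun u => (h1.ge (Subgroup.mem_top u) : u ∈ U) a ha

theorem sup_stabilizer {A : Subgroup H} (hA : A.Normal) (hA0 : A ≠ ⊥) {v : V} (hv : v ≠ 1) :
    A ⊔ stabilizer H v = ⊤ :=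
  (hS.coatom v hv).2 _ (lt_of_le_not_ge le_sup_right fun h =>
    hA0 (hS.eq_bot_of_le_stabilizer hA hv (le_sup_left.trans h)))

theorem stabilizer_ne_bot {v : V} (hv : v ≠ 1) : stabilizer H v ≠ ⊥ := by
  intro h
  refine hS.nonsolv ?_
  have key : ∀ a : H, a ≠ 1 → Subgroup.zpowers a = ⊤ := fun a ha =>
    (hS.coatom v hv).2 _ (by rw [h]; exact bot_lt_iff_ne_bot.2 (by simpa using ha))
  by_cases hne : ∃ a : H, a ≠ 1
  · obtain ⟨a, ha⟩ := hne
    exact Group.isSolvable_of_comm fun x y => by
      obtain ⟨i, rfl⟩ := Subgroup.mem_zpowers_iff.1 ((key a ha).ge (Subgroup.mem_top x))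
      obtain ⟨j, rfl⟩ := Subgroup.mem_zpowers_iff.1 ((key a ha).ge (Subgroup.mem_top y))
      rw [← zpow_add, add_comm, zpow_add]
  · push Not at hne
    exact Group.isSolvable_of_comm fun x y => by rw [hne x, hne y]

omit hS in
theorem exists_orderOf_two {A : Subgroup H} (hA : ¬ Group.IsSolvable A) :
    ∃ t ∈ A, orderOf t = 2 := by
  obtain ⟨t, ht⟩ := exists_prime_orderOf_dvd_card' (G := A) 2 (by
    rcases Nat.even_or_odd (Nat.card A) with h | h
    · exact h.two_dvd
    · exact absurd (Cfsg.Agent.S0205.result h) hA)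
  exact ⟨t, t.2, by rwa [← Subgroup.orderOf_coe] at ht⟩

theorem mul_self_eq_one {p d : ℕ} (hp : p.Prime) (hcard : Nat.card V = p ^ d) :
    p = 2 ∧ ∀ v : V, v * v = 1 := by
  have hp2 : p = 2 := by
    by_contra hp2
    have hodd : Odd (Nat.card V) := hcard ▸ (hp.odd_of_ne_two hp2).pow
    obtain ⟨t, ht⟩ := exists_prime_orderOf_dvd_card' (G := H) 2 (by
      rcases Nat.even_or_odd (Nat.card H) with h | h
      · exact h.two_dvd
      · exact absurd (Cfsg.Agent.S0205.result h) hS.nonsolv)
    have htt : t * t = 1 := by rw [← sq, ← ht, pow_orderOf_eq_one]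
    obtain ⟨w, hw⟩ : ∃ w : V, t • w ≠ w := by
      by_contra hc
      push Not at hc
      rw [hS.faith t hc, orderOf_one] at ht
      omega
    set v := w * (t • w)⁻¹ with hv
    have hv1 : v ≠ 1 := fun h => hw (mul_inv_eq_one.1 h).symm
    have htv : t • v = v⁻¹ := by
      rw [hv, smul_mul', smul_inv', ← mul_smul, htt, one_smul, mul_inv_rev, inv_inv, mul_comm]
    set M := stabilizer H v with hM
    have hnorm : t ∈ Subgroup.normalizer (M : Set H) := by
      have ht' : t⁻¹ = t := inv_eq_of_mul_eq_one_right htt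
      refine Subgroup.mem_normalizer_iff.2 fun m => ?_
      rw [hM, mem_stabilizer_iff, mem_stabilizer_iff, mul_smul, mul_smul, ht', htv, smul_inv',
        smul_inv', ← inv_inj (a := m • v)]
      constructor
      · intro h
        rw [inv_inj] at h
        rw [h, htv, inv_inv]
      · intro h
        have h1 : t • (t • m • v)⁻¹ = t • v := by rw [h]
        rw [smul_inv', ← mul_smul, htt, one_smul, htv] at h1
        exact h1
    have hnn : Subgroup.normalizer (M : Set H) ≠ ⊤ := fun h =>
      hS.stabilizer_ne_bot hv1 (hS.eq_bot_of_le_stabilizer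
        (Subgroup.normalizer_eq_top_iff.1 h) hv1 le_rfl)
    have htM : t ∈ M := by
      by_contra h
      exact hnn ((hS.coatom v hv1).2 _ (lt_of_le_not_ge Subgroup.le_normalizer fun hle => h (hle hnorm)))
    have h2 : orderOf v ∣ 2 := orderOf_dvd_of_pow_eq_one (by
      rw [sq]
      calc v * v = v * t • v := by rw [mem_stabilizer_iff.1 htM]
        _ = 1 := by rw [htv, mul_inv_cancel])
    have h3 : orderOf v ∣ Nat.card V := orderOf_dvd_natCard v
    rcases (Nat.dvd_prime Nat.prime_two).1 h2 with h4 | h4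
    · exact hv1 (orderOf_eq_one_iff.1 h4)
    · rw [h4] at h3
      exact (Nat.not_even_iff_odd.2 hodd) (even_iff_two_dvd.2 h3)
  refine ⟨hp2, ?_⟩
  subst hp2
  let U : Subgroup V := (powMonoidHom 2 : V →* V).ker
  rcases hS.irred U (fun g u hu => by
    rw [MonoidHom.mem_ker, powMonoidHom_apply] at hu ⊢
    rw [← smul_pow', hu, smul_one]) with h1 | h1
  · obtain ⟨v, hv⟩ := hS.nontriv
    haveI : Nontrivial V := ⟨⟨v, 1, hv⟩⟩
    obtain ⟨u, hu⟩ := exists_prime_orderOf_dvd_card' (G := V) 2 (by
      rcases d with _ | d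
      · rw [pow_zero] at hcard
        exact absurd hcard Finite.one_lt_card.ne'
      · rw [hcard]
        exact dvd_pow_self 2 (by omega))
    have : u ∈ U := by rw [MonoidHom.mem_ker, powMonoidHom_apply, ← hu, pow_orderOf_eq_one]
    rw [h1, Subgroup.mem_bot] at this
    rw [this, orderOf_one] at hu
    omega
  · intro v
    have : v ∈ U := h1 ▸ Subgroup.mem_top v
    rwa [MonoidHom.mem_ker, powMonoidHom_apply, sq] at this

section Two

variable (h2 : ∀ v : V, v * v = 1)
include h2

theorem inv_eq (v : V) : v⁻¹ = v := inv_eq_of_mul_eq_one_right (h2 v)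

theorem exists_fixed {t : H} (ht : t * t = 1) : ∃ v : V, v ≠ 1 ∧ t • v = v := by
  obtain ⟨w, hw⟩ := hS.nontriv
  by_cases htw : t • w = w
  · exact ⟨w, hw, htw⟩
  · exact ⟨w * t • w, fun h => htw ((eq_inv_of_mul_eq_one_right h).trans (hS.inv_eq h2 w)),
      by rw [smul_mul', ← mul_smul, ht, one_smul, mul_comm]⟩

/-- Semiregular subgroups are solvable. -/
theorem isSolvable_of_semiregular {A : Subgroup H}
    (hA : ∀ v : V, v ≠ 1 → A ⊓ stabilizer H v = ⊥) : Group.IsSolvable A := by
  by_contra hns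
  obtain ⟨t, htA, ht⟩ := exists_orderOf_two hns
  obtain ⟨v, hv, htv⟩ := hS.exists_fixed h2 (t := t) (by rw [← sq, ← ht, pow_orderOf_eq_one])
  have : t ∈ A ⊓ stabilizer H v := ⟨htA, htv⟩
  rw [hA v hv, Subgroup.mem_bot] at this
  rw [this, orderOf_one] at ht
  omega

/-- `H` has no non-trivial abelian normal subgroup. -/
theorem eq_bot_of_normal_comm {A : Subgroup H} (hA : A.Normal)
    (hAc : ∀ a ∈ A, ∀ b ∈ A, a * b = b * a) : A = ⊥ := by
  classical
  by_contra hA0
  haveI := hA
  -- `A` acts semiregularly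
  have hsr : ∀ v : V, v ≠ 1 → A ⊓ stabilizer H v = ⊥ := by
    intro v hv
    refine hS.eq_bot_of_le_stabilizer ?_ hv inf_le_right
    refine normal_of_le_normalizer (hS.sup_stabilizer hA hA0 hv) (fun a ha => ?_) ?_
    · exact Subgroup.mem_normalizer_iff.2 fun x => ⟨fun hx => by
        rwa [hAc a ha x hx.1, mul_inv_cancel_right], fun hx => by
        have h1 : x = a⁻¹ * (a * x * a⁻¹) * a := by group
        rw [h1, hAc _ (A.inv_mem ha) _ hx.1, inv_mul_cancel_right]
        exact hx⟩
    · exact (le_inf (Subgroup.normalizer_eq_top (H := A) ▸ le_top) Subgroup.le_normalizer).trans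
        Subgroup.inf_normalizer_le_normalizer_inf
  obtain ⟨r, hr, hdvd⟩ := Nat.exists_prime_and_dvd
    (fun h : Nat.card A = 1 => hA0 (Subgroup.card_eq_one.1 h))
  haveI := Fact.mk hr
  obtain ⟨⟨a, haA⟩, hao⟩ := exists_prime_orderOf_dvd_card' (G := A) r hdvd
  replace hao : orderOf a = r := (Subgroup.orderOf_mk a haA).symm.trans hao
  have ha1 : a ≠ 1 := fun h => by rw [h, orderOf_one] at hao; exact hr.one_lt.ne hao
  have hfix : ∀ g ∈ A, g ≠ 1 → ∀ v : V, g • v = v → v = 1 := fun g hg hg1 v hgv => by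
    by_contra hv
    exact hg1 (Subgroup.mem_bot.1 ((hsr v hv).le ⟨hg, hgv⟩))
  have hr2 : r ≠ 2 := by
    rintro rfl
    obtain ⟨v, hv, hv'⟩ := hS.exists_fixed h2 (t := a) (by rw [← sq, ← hao, pow_orderOf_eq_one])
    exact hv (hfix a haA ha1 v hv')
  -- the elements of order `r` form a cyclic group
  have hprod : ∀ g ∈ A, g ^ r = 1 → g ≠ 1 → ∀ v : V, ∏ j ∈ Finset.range r, g ^ j • v = 1 := by
    intro g hg hgr hg1 v
    refine hfix g hg hg1 _ ?_
    rw [Finset.smul_prod']
    simp_rw [← mul_smul, ← pow_succ']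
    have h1 := Finset.prod_range_succ' (fun j => g ^ j • v) r
    have h2' := Finset.prod_range_succ (fun j => g ^ j • v) r
    rw [h2', hgr, pow_zero] at h1
    exact (mul_right_cancel h1).symm
  have hcyc : ∀ b ∈ A, b ^ r = 1 → b ∈ Subgroup.zpowers a := by
    intro b hb hbr
    by_contra hbz
    obtain ⟨v, hv⟩ := hS.nontriv
    have har : a ^ r = 1 := hao ▸ pow_orderOf_eq_one a
    have hab : Commute a b := hAc a haA b hb
    have hb1 : b ≠ 1 := fun h => hbz (h ▸ one_mem _)
    have hne : ∀ i : ℕ, a * b ^ i ≠ 1 ∨ r ∣ i := by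
      intro i
      by_contra hc
      push Not at hc
      obtain ⟨hc1, hc2⟩ := hc
      refine hbz ?_
      have hmem : b ^ i ∈ Subgroup.zpowers a := by
        rw [eq_inv_of_mul_eq_one_right hc1]
        exact inv_mem (Subgroup.mem_zpowers a)
      obtain ⟨j, hj⟩ := exists_pow_eq_self_of_coprime (x := b) (n := i) (by
        rw [orderOf_eq_prime hbr hb1]
        exact ((hr.coprime_iff_not_dvd).2 hc2).symm)
      rw [← hj]
      exact pow_mem hmem j
    have h1 : ∏ i ∈ Finset.range r, ∏ j ∈ Finset.range r, (a * b ^ i) ^ j • v = 1 := by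
      refine Finset.prod_eq_one fun i hi => hprod _ (A.mul_mem haA (A.pow_mem hb i)) ?_ ?_ v
      · rw [(hab.pow_right i).mul_pow, har, ← pow_mul, mul_comm, pow_mul, hbr, one_pow, one_mul]
      · rcases hne i with h | h
        · exact h
        · obtain ⟨k, rfl⟩ := h
          rw [pow_mul, hbr, one_pow, mul_one]
          exact ha1
    rw [Finset.prod_comm] at h1
    have h3 : ∀ j ∈ Finset.range r, j ≠ 0 → ∏ i ∈ Finset.range r, (a * b ^ i) ^ j • v = 1 := by
      intro j hj hj0
      have hbj : b ^ j ≠ 1 := fun h => by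
        have := orderOf_dvd_of_pow_eq_one h
        rw [orderOf_eq_prime hbr hb1] at this
        exact absurd (Nat.le_of_dvd (Nat.pos_of_ne_zero hj0) this)
          (not_le.2 (Finset.mem_range.1 hj))
      have h4 := hprod _ (A.pow_mem hb j) (by rw [← pow_mul, mul_comm, pow_mul, hbr, one_pow]) hbj v
      have h5 : ∀ i, (a * b ^ i) ^ j • v = a ^ j • (b ^ j) ^ i • v := fun i => by
        rw [(hab.pow_right i).mul_pow, mul_smul, ← pow_mul, ← pow_mul, mul_comm i j]
      simp_rw [h5]
      rw [← Finset.smul_prod', h4, smul_one]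
    rw [Finset.prod_eq_single 0 h3 (fun h => absurd (Finset.mem_range.2 hr.pos) h)] at h1
    simp only [pow_zero, one_smul, Finset.prod_const, Finset.card_range] at h1
    have h6 : orderOf v ∣ Nat.gcd r 2 :=
      Nat.dvd_gcd (orderOf_dvd_of_pow_eq_one h1) (orderOf_dvd_of_pow_eq_one (by rw [sq, h2]))
    rw [(Nat.coprime_primes hr Nat.prime_two).2 hr2, Nat.dvd_one, orderOf_eq_one_iff] at h6
    exact hv h6
  -- hence `zpowers a` is normal and `H` is solvable
  set Z := Subgroup.zpowers a with hZ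
  have hZA : Z ≤ A := Subgroup.zpowers_le.2 haA
  have hZn : Z.Normal := ⟨fun z hz g => hcyc _ (hA.conj_mem z (hZA hz) g) (by
    obtain ⟨k, rfl⟩ := Subgroup.mem_zpowers_iff.1 hz
    have har : a ^ r = 1 := hao ▸ pow_orderOf_eq_one a
    rw [conj_pow, ← zpow_natCast (a ^ k) r, ← zpow_mul, mul_comm, zpow_mul, zpow_natCast, har,
      one_zpow, mul_one, mul_inv_cancel])⟩
  obtain ⟨v, hv⟩ := hS.nontriv
  set M := stabilizer H v
  have hsup : Z ⊔ M = ⊤ :=
    hS.sup_stabilizer hZn (Subgroup.zpowers_ne_bot.2 ha1) hv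
  refine hS.nonsolv ?_
  -- the centraliser of `a` in `M` is trivial, so `M` is abelian
  have hC : (M ⊓ Subgroup.centralizer (Z : Set H)) = ⊥ := by
    refine hS.eq_bot_of_le_stabilizer ?_ hv inf_le_left
    refine normal_of_le_normalizer hsup (fun z hz => ?_) ?_
    · have hcz : ∀ x ∈ M ⊓ Subgroup.centralizer (Z : Set H), z * x * z⁻¹ = x := fun x hx => by
        rw [Subgroup.mem_centralizer_iff.1 hx.2 z hz, mul_inv_cancel_right]
      refine Subgroup.mem_normalizer_iff.2 fun x => ⟨fun hx => (hcz x hx).symm ▸ hx, fun hx => ?_⟩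
      have h7 := Subgroup.mem_centralizer_iff.1 hx.2 z hz
      have h8 : z * x * z⁻¹ = x := by
        have : z * (z * x * z⁻¹) = z * x := by rw [h7]; group
        exact mul_left_cancel this
      rwa [h8] at hx
    · exact (le_inf Subgroup.le_normalizer
        (le_trans (Subgroup.normalizer_eq_top (H := Subgroup.centralizer (Z : Set H)) ▸ le_top)
          le_rfl)).trans Subgroup.inf_normalizer_le_normalizer_inf
  have hcomm : ∀ x y : M, x * y = y * x := by
    intro x y
    have hmem : ((x : H) * y * (x : H)⁻¹ * (y : H)⁻¹) ∈ M ⊓ Subgroup.centralizer (Z : Set H) := by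
      refine ⟨M.mul_mem (M.mul_mem (M.mul_mem x.2 y.2) (M.inv_mem x.2)) (M.inv_mem y.2), ?_⟩
      refine Subgroup.mem_centralizer_iff.2 fun z hz => ?_
      let φ : H →* MulAut Z := MulAut.conjNormal
      have hc : ∀ f g : MulAut Z, f * g = g * f := by
        intro f g
        obtain ⟨i, hi⟩ := MonoidHom.map_cyclic f.toMonoidHom
        obtain ⟨j, hj⟩ := MonoidHom.map_cyclic g.toMonoidHom
        ext w
        have e1 : ∀ u, f u = u ^ i := hi
        have e2 : ∀ u, g u = u ^ j := hj
        simp only [MulAut.mul_apply, e1, e2]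
        rw [← zpow_mul, ← zpow_mul, mul_comm]
      have hk : φ ((x : H) * y * (x : H)⁻¹ * (y : H)⁻¹) = 1 := by
        rw [map_mul, map_mul, map_mul, map_inv, map_inv, hc (φ x) (φ y)]
        group
      have hz' := DFunLike.congr_fun hk ⟨z, hz⟩
      have := congrArg Subtype.val hz'
      rw [MulAut.conjNormal_apply] at this
      exact (mul_inv_eq_iff_eq_mul.1 this).symm
    rw [hC, Subgroup.mem_bot] at hmem
    exact Subtype.ext (mul_inv_eq_iff_eq_mul.1 (mul_inv_eq_one.1 hmem))
  haveI := hZn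
  haveI : Group.IsSolvable M := Group.isSolvable_of_comm hcomm
  haveI : Group.IsSolvable (H ⧸ Z) := by
    refine Group.isSolvable_of_surjective (f := (QuotientGroup.mk' Z).comp M.subtype) fun q => ?_
    obtain ⟨g, rfl⟩ := QuotientGroup.mk'_surjective Z q
    obtain ⟨z, hz, m, hm, rfl⟩ := Subgroup.mem_sup_of_normal_left.1 (hsup.ge (Subgroup.mem_top g))
    exact ⟨⟨m, hm⟩, by
      rw [MonoidHom.comp_apply, map_mul]
      simp [(QuotientGroup.eq_one_iff z).2 hz]⟩
  exact Group.isSolvable_of_ker_le_range Z.subtype (QuotientGroup.mk' Z) (by simp)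

theorem eq_bot_of_semiregular_normal {A : Subgroup H} (hA : A.Normal)
    (hsr : ∀ v : V, v ≠ 1 → A ⊓ stabilizer H v = ⊥)
    (hmin : ∀ B : Subgroup H, B.Normal → B ≤ A → B = ⊥ ∨ B = A) : A = ⊥ := by
  by_contra hA0
  haveI := hA
  haveI := hS.isSolvable_of_semiregular h2 hsr
  haveI : Nontrivial A := A.nontrivial_iff_ne_bot.2 hA0
  have hlt : ⁅A, A⁆ < A := by
    refine lt_of_le_of_ne (Subgroup.commutator_le_right A A) fun h => ?_
    refine (Group.IsSolvable.commutator_lt_top_of_nontrivial A).ne (Subgroup.map_injective A.subtype_injective ?_)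
    rw [map_commutator_eq, ← MonoidHom.range_eq_map, Subgroup.range_subtype, h]
  rcases hmin ⁅A, A⁆ inferInstance (Subgroup.commutator_le_right A A) with h | h
  · exact hA0 (hS.eq_bot_of_normal_comm h2 hA fun a ha b hb =>
      (Subgroup.mem_centralizer_iff.1 (Subgroup.commutator_eq_bot_iff_le_centralizer.1 h ha) b hb).symm)
  · exact hlt.ne h

end Two

end Setting

end CfsgLib.ExtremelyPrimitive
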