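import Cfsg.Agent.Lib.ExtremelyPrimitive.Affine

/-!
# Affine groups with maximal vector stabilisers are almost simple

If `H` acts faithfully and irreducibly on an elementary abelian 2-group with all vector stabilisers
maximal and `H` is not solvable, then `H` has a simple non-abelian normal subgroup with trivial
centraliser.
-/

set_option linter.unusedSectionVars false
set_option linter.style.haveILetI false

namespace CfsgLib.ExtremelyPrimitive

open MulAction

variable {H V : Type*} [Group H] [Finite H] [CommGroup V] [Finite V] [MulDistribMulAction H V]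

/-- The conjugate `g A g⁻¹`. -/
def cj (g : H) (A : Subgroup H) : Subgroup H :=
  A.comap (MulAut.conj g⁻¹).toMonoidHom

theorem mem_cj {g x : H} {A : Subgroup H} : x ∈ cj g A ↔ g⁻¹ * x * g ∈ A := by simp [cj]

theorem cj_one (A : Subgroup H) : cj 1 A = A := by ext; simp [mem_cj]

theorem cj_mul (a b : H) (A : Subgroup H) : cj (a * b) A = cj a (cj b A) := by
  ext; simp [mem_cj, mul_assoc]

theorem cj_mono {g : H} {A B : Subgroup H} (h : A ≤ B) : cj g A ≤ cj g B :=
  Subgroup.comap_mono h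

theorem cj_inf (g : H) (A B : Subgroup H) : cj g (A ⊓ B) = cj g A ⊓ cj g B :=
  Subgroup.comap_inf _ _ _

theorem conj_mem_cj {g a : H} {A : Subgroup H} (ha : a ∈ A) : g * a * g⁻¹ ∈ cj g A := by
  rw [mem_cj]; simpa [mul_assoc] using ha

theorem card_cj (g : H) (A : Subgroup H) : Nat.card (cj g A) = Nat.card A :=
  Nat.card_congr
    { toFun := fun x => ⟨g⁻¹ * x * g, mem_cj.1 x.2⟩
      invFun := fun a => ⟨g * a * g⁻¹, conj_mem_cj a.2⟩
      left_inv := fun x => Subtype.ext (by simp [mul_assoc])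
      right_inv := fun x => Subtype.ext (by simp [mul_assoc]) }

theorem cj_eq_bot {g : H} {A : Subgroup H} : cj g A = ⊥ ↔ A = ⊥ := by
  rw [← Subgroup.card_eq_one, card_cj, Subgroup.card_eq_one]

theorem cj_stabilizer (g : H) (v : V) : cj g (stabilizer H v) = stabilizer H (g • v) := by
  ext x
  rw [mem_cj, mem_stabilizer_iff, mem_stabilizer_iff, mul_smul, mul_smul, inv_smul_eq_iff]

theorem mem_normalizer_iff_cj {g : H} {A : Subgroup H} :
    g ∈ Subgroup.normalizer (A : Set H) ↔ cj g A = A := by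
  rw [Subgroup.mem_normalizer_iff'', SetLike.ext_iff]
  exact forall_congr' fun x => by rw [mem_cj]; exact Iff.comm

theorem cj_normal (g : H) {A : Subgroup H} (hA : A.Normal) : cj g A = A :=
  mem_normalizer_iff_cj.1 ((Subgroup.normalizer_eq_top_iff.2 hA).ge (Subgroup.mem_top g))

theorem mem_normalizer_of_cj_le {g : H} {A : Subgroup H} (h : cj g A ≤ A) :
    g ∈ Subgroup.normalizer (A : Set H) :=
  mem_normalizer_iff_cj.2 (Subgroup.eq_of_le_of_card_ge h (card_cj g A).ge)

namespace Setting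

variable (hS : Setting H V) (h2 : ∀ v : V, v * v = 1)
include hS h2

/-- Core of the argument: no minimal `N₀`-invariant subgroup `T` has a second conjugate. -/
theorem no_conjugates {N₀ T : Subgroup H} (hN : N₀.Normal) (hN0 : N₀ ≠ ⊥) (hTle : T ≤ N₀)
    (hT0 : T ≠ ⊥) (hTN : N₀ ≤ Subgroup.normalizer (T : Set H))
    (hTmin : ∀ A : Subgroup H, A ≠ ⊥ → A ≤ T → N₀ ≤ Subgroup.normalizer (A : Set H) → A = T)
    (hgen : Subgroup.normalClosure (T : Set H) = N₀) [IsSimpleGroup T]
    (hns : ¬ Group.IsSolvable T)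
    (hcomm : ∀ g : H, cj g T ≠ T → ∀ a ∈ T, ∀ b ∈ cj g T, a * b = b * a) :
    T.Normal := by
  classical
  by_contra hTn
  obtain ⟨g₀, hg₀⟩ : ∃ g, cj g T ≠ T := by
    by_contra hc
    push Not at hc
    exact hTn (Subgroup.normalizer_eq_top_iff.1 (top_le_iff.1 fun g _ =>
      mem_normalizer_iff_cj.2 (hc g)))
  set T₂ := cj g₀ T with hT₂
  have hgenle : ∀ P : Subgroup H, (∀ g : H, cj g T ≤ P) → N₀ ≤ P := by
    intro P hP
    rw [← hgen, Subgroup.normalClosure, Subgroup.closure_le]
    intro x hx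
    obtain ⟨a, ha, hax⟩ := Group.mem_conjugatesOfSet_iff.1 hx
    obtain ⟨c, hc⟩ := isConj_iff.1 hax
    exact hP c (hc ▸ conj_mem_cj ha)
  -- every stabiliser is transitive on the conjugates of `T`
  have htrans : ∀ v : V, v ≠ 1 → ∀ g : H, ∃ m ∈ stabilizer H v, cj m T = cj g T := by
    intro v hv g
    haveI := hN
    obtain ⟨n, hn, m, hm, hnm⟩ := Subgroup.mem_sup_of_normal_left.1
      ((hS.sup_stabilizer hN hN0 hv).ge (Subgroup.mem_top g⁻¹))
    refine ⟨m⁻¹, inv_mem hm, ?_⟩
    have hg : g = m⁻¹ * n⁻¹ := by rw [← mul_inv_rev, hnm, inv_inv]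
    rw [hg, cj_mul m⁻¹ n⁻¹, mem_normalizer_iff_cj.1 (hTN (inv_mem hn))]
  have hCV : ∀ v : V, T ≤ stabilizer H v → v = 1 := by
    intro v hle
    by_contra hv
    refine hN0 (hS.eq_bot_of_le_stabilizer hN hv (hgenle _ fun g => ?_))
    obtain ⟨m, hm, hmg⟩ := htrans v hv g
    rw [← hmg]
    refine (cj_mono hle).trans ?_
    rw [cj_stabilizer, mem_stabilizer_iff.1 hm]
  -- the stabilisers in `T` are self-normalising
  have hself : ∀ v : V, v ≠ 1 → T ⊓ stabilizer H v ≠ ⊥ → ∀ g ∈ T,
      g ∈ Subgroup.normalizer ((T ⊓ stabilizer H v : Subgroup H) : Set H) → g • v = v := by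
    intro v hv hA0 g hgT hgA
    by_contra hgv
    set M := stabilizer H v
    set A := T ⊓ M with hA
    set s : Set H := {x | ∃ m ∈ M, ∃ a ∈ A, x = m * a * m⁻¹} with hs
    set X := Subgroup.closure s with hX
    have hXM : X ≤ M := by
      rw [hX, Subgroup.closure_le]
      rintro _ ⟨m, hm, a, ha, rfl⟩
      exact M.mul_mem (M.mul_mem hm ha.2) (M.inv_mem hm)
    have hAX : A ≤ X := fun a ha => Subgroup.subset_closure ⟨1, one_mem _, a, ha, by simp⟩
    have hMX : M ≤ Subgroup.normalizer (X : Set H) := by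
      intro k hk
      refine inv_mem_iff.1 (mem_normalizer_of_cj_le ?_)
      refine le_of_eq (Eq.symm (Subgroup.eq_of_le_of_card_ge ?_ (card_cj _ X).le))
      rw [hX, Subgroup.closure_le]
      rintro _ ⟨m, hm, a, ha, rfl⟩
      rw [SetLike.mem_coe, mem_cj, inv_inv]
      exact Subgroup.subset_closure ⟨k * m, M.mul_mem hk hm, a, ha, by group⟩
    have hgX : g ∈ Subgroup.normalizer (X : Set H) := by
      refine inv_mem_iff.1 (mem_normalizer_of_cj_le ?_)
      refine le_of_eq (Eq.symm (Subgroup.eq_of_le_of_card_ge ?_ (card_cj _ X).le))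
      rw [hX, Subgroup.closure_le]
      rintro _ ⟨m, hm, a, ha, rfl⟩
      rw [SetLike.mem_coe, mem_cj, inv_inv]
      have hmem : m * a * m⁻¹ ∈ cj m A := conj_mem_cj ha
      by_cases hm' : cj m T = T
      · have hmA : cj m A = A := by
          rw [hA, cj_inf, hm', cj_stabilizer, mem_stabilizer_iff.1 hm]
        rw [hmA] at hmem
        exact hAX (((Subgroup.mem_normalizer_iff.1 hgA) _).1 hmem)
      · have hc := hcomm m hm' g hgT _ ((cj_mono inf_le_left : cj m A ≤ cj m T) hmem)
        rw [hc, mul_inv_cancel_right]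
        exact Subgroup.subset_closure ⟨m, hm, a, ha, rfl⟩
    have htop : Subgroup.normalizer (X : Set H) = ⊤ :=
      (hS.coatom v hv).2 _ (lt_of_le_not_ge hMX fun h => hgv (h hgX))
    exact hA0 (le_bot_iff.1 (hAX.trans
      (hS.eq_bot_of_le_stabilizer (Subgroup.normalizer_eq_top_iff.1 htop) hv hXM).le))
  -- conjugates have the same stabiliser orders
  have htransfer : ∀ v : V, v ≠ 1 → ∀ g : H,
      Nat.card (cj g T ⊓ stabilizer H v : Subgroup H) =
        Nat.card (T ⊓ stabilizer H v : Subgroup H) := by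
    intro v hv g
    obtain ⟨m, hm, hmg⟩ := htrans v hv g
    have : cj g T ⊓ stabilizer H v = cj m (T ⊓ stabilizer H v) := by
      rw [cj_inf, hmg, cj_stabilizer, mem_stabilizer_iff.1 hm]
    rw [this, card_cj]
  obtain ⟨t, htT, ht⟩ := exists_orderOf_two hns
  obtain ⟨v₁, hv₁, htv₁⟩ := hS.exists_fixed h2 (t := t) (by rw [← sq, ← ht, pow_orderOf_eq_one])
  obtain ⟨x, hx, hmax⟩ := Set.exists_max_image {v : V | v ≠ 1}
    (fun v => Nat.card (T ⊓ stabilizer H v : Subgroup H)) (Set.toFinite _) ⟨v₁, hv₁⟩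
  set K := T ⊓ stabilizer H x with hK
  have hK0 : K ≠ ⊥ := fun h => by
    have h1 : T ⊓ stabilizer H v₁ = ⊥ := Subgroup.card_eq_one.1
      (le_antisymm ((hmax v₁ hv₁).trans (Subgroup.card_eq_one.2 h).le) Nat.card_pos)
    have : t ∈ (⊥ : Subgroup H) := h1.le ⟨htT, htv₁⟩
    rw [Subgroup.mem_bot.1 this, orderOf_one] at ht
    omega
  -- intersecting stabilisers
  have hclaim : ∀ y : V, y ≠ 1 → T ⊓ stabilizer H y ≠ ⊥ → ∀ g ∈ T,
      ∃ s : V, s ≠ 1 ∧ T ⊓ stabilizer H s = T ⊓ stabilizer H y ⊓ stabilizer H (g • x) := by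
    intro y hy hA g hgT
    set w := g • x with hw
    have hw1 : w ≠ 1 := fun h => hx (by simpa [hw, smul_eq_iff_eq_inv_smul] using h)
    set A₂ := T₂ ⊓ stabilizer H y with hA₂
    have hA₂0 : A₂ ≠ ⊥ := fun h => hA (Subgroup.card_eq_one.1 (by
      rw [← htransfer y hy g₀, ← hT₂, ← hA₂, h, Subgroup.card_bot]))
    obtain ⟨h, hh, hnot⟩ : ∃ h ∈ T₂, ¬ A₂ ≤ stabilizer H (h • w) := by
      by_contra hc
      push Not at hc
      set D : Subgroup H := T₂ ⊓ ⨅ h ∈ T₂, stabilizer H (h • w) with hD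
      have hAD : A₂ ≤ D := le_inf inf_le_left (le_iInf fun h => le_iInf fun hh => hc h hh)
      have hT₂D : T₂ ≤ Subgroup.normalizer (D : Set H) := by
        intro k hk
        refine mem_normalizer_of_cj_le fun z hz => ?_
        rw [mem_cj] at hz
        refine ⟨?_, ?_⟩
        · have := T₂.mul_mem (T₂.mul_mem hk hz.1) (T₂.inv_mem hk)
          simpa [mul_assoc] using this
        · refine Subgroup.mem_iInf.2 ?_
          intro h
          rw [Subgroup.mem_iInf]
          intro hh
          have h1 := Subgroup.mem_iInf.1 (Subgroup.mem_iInf.1 hz.2 (k⁻¹ * h))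
            (T₂.mul_mem (T₂.inv_mem hk) hh)
          rw [mem_stabilizer_iff] at h1 ⊢
          rw [mul_smul k⁻¹ h w, ← mul_smul (k⁻¹ * z * k) k⁻¹,
            mul_inv_cancel_right, mul_smul, smul_left_cancel_iff] at h1
          exact h1
      have hND : N₀ ≤ Subgroup.normalizer (D : Set H) := by
        refine hgenle _ fun c => ?_
        by_cases hc' : cj c T = T₂
        · exact hc' ▸ hT₂D
        · intro k hk
          refine mem_normalizer_of_cj_le fun z hz => ?_
          rw [mem_cj] at hz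
          have hne : cj (g₀⁻¹ * c) T ≠ T := fun h => hc' (by
            rw [hT₂]; nth_rw 2 [← h]; rw [← cj_mul, mul_inv_cancel_left])
          have hk' : g₀⁻¹ * k * g₀ ∈ cj (g₀⁻¹ * c) T := by
            rw [mem_cj] at hk ⊢
            simpa [mul_assoc] using hk
          have hz' : g₀⁻¹ * (k⁻¹ * z * k) * g₀ ∈ T := mem_cj.1 hz.1
          have h1 := hcomm _ hne _ hz' _ hk'
          have h2' : k⁻¹ * z * k * k = k * (k⁻¹ * z * k) := by
            have := congrArg (fun u => g₀ * u * g₀⁻¹) h1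
            simpa [mul_assoc] using this
          have h3 : k⁻¹ * z * k = z := by
            rw [show k * (k⁻¹ * z * k) = z * k by group] at h2'
            exact mul_right_cancel h2'
          rwa [h3] at hz
      have hDT : cj g₀⁻¹ D = T := hTmin _ (fun h => hA₂0 (le_bot_iff.1 (hAD.trans
        (cj_eq_bot.1 h).le))) (by
          refine (cj_mono inf_le_left).trans ?_
          rw [hT₂, ← cj_mul, inv_mul_cancel, cj_one]) (fun n hn => by
          rw [mem_normalizer_iff_cj, ← cj_mul,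
            show n * g₀⁻¹ = g₀⁻¹ * (g₀ * n * g₀⁻¹) by group, cj_mul g₀⁻¹ (g₀ * n * g₀⁻¹),
            mem_normalizer_iff_cj.1 (hND (hN.conj_mem n hn g₀))])
      have hT₂w : T₂ ≤ stabilizer H w := by
        have h1 : D = T₂ := by
          rw [hT₂, ← hDT, ← cj_mul, mul_inv_cancel, cj_one]
        rw [← h1, hD]
        exact inf_le_right.trans ((iInf₂_le (1 : H) (one_mem T₂)).trans (by rw [one_smul]))
      refine hw1 (hCV w ?_)
      have h1 := htransfer w hw1 g₀
      rw [← hT₂, inf_eq_left.2 hT₂w, hT₂, card_cj] at h1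
      exact inf_eq_left.1 (Subgroup.eq_of_le_of_card_ge inf_le_left h1.le)
    set z := h • w with hz
    have hz1 : z ≠ 1 := fun h' => hw1 (by simpa [hz, smul_eq_iff_eq_inv_smul] using h')
    have hcT : ∀ a ∈ T, ∀ b ∈ T₂, a * b = b * a := hcomm g₀ hg₀
    have hsmul : ∀ a ∈ T, ∀ b ∈ T₂, ∀ u : V, a • b • u = b • a • u := fun a ha b hb u => by
      rw [← mul_smul, hcT a ha b hb, mul_smul]
    refine ⟨y * z, fun h' => hnot ?_, le_antisymm ?_ ?_⟩
    · rw [eq_inv_of_mul_eq_one_left h', hS.inv_eq h2] at hA₂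
      exact hA₂ ▸ inf_le_right
    · rintro a ⟨haT, has⟩
      replace has : a • y * a • z = y * z := (smul_mul' a y z).symm.trans (mem_stabilizer_iff.1 has)
      have hu : a • y * y = a • z * z := by
        calc a • y * y = a • y * y * ((a • z * z) * (a • z * z)) := by rw [h2, mul_one]
          _ = (a • y * a • z) * (y * z) * (a • z * z) := by
            simp only [mul_comm, mul_left_comm, mul_assoc]
          _ = a • z * z := by rw [has, h2, one_mul]
      set B := T₂ ⊓ stabilizer H z with hB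
      have hBcard : Nat.card B = Nat.card K := by
        rw [hB, hT₂, htransfer z hz1 g₀]
        have : T ⊓ stabilizer H z = T ⊓ stabilizer H w := by
          ext b
          simp only [Subgroup.mem_inf, mem_stabilizer_iff]
          exact and_congr_right fun hb => by rw [hz, hsmul b hb h hh, smul_left_cancel_iff]
        rw [this, hw, ← cj_stabilizer]
        rw [← mem_normalizer_iff_cj.1 (hTN (hTle hgT)), ← cj_inf, card_cj]
      have hu1 : a • y * y = 1 := by
        by_contra hu1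
        set u := a • y * y with hu'
        have hBu : B ≤ T₂ ⊓ stabilizer H u := fun b hb => ⟨hb.1, mem_stabilizer_iff.2 (by
          rw [hu, smul_mul', ← hsmul a haT b hb.1, mem_stabilizer_iff.1 hb.2])⟩
        have hle : Nat.card (T₂ ⊓ stabilizer H u : Subgroup H) ≤ Nat.card B := by
          rw [hT₂, htransfer u hu1 g₀, hBcard]
          exact hmax u hu1
        have heq := Subgroup.eq_of_le_of_card_ge hBu hle
        refine hnot fun b hb => ?_
        have hbu : b ∈ T₂ ⊓ stabilizer H u := ⟨hb.1, mem_stabilizer_iff.2 (by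
          rw [hu', smul_mul', ← hsmul a haT b hb.1, mem_stabilizer_iff.1 hb.2])⟩
        rw [← heq] at hbu
        exact hbu.2
      have hay : a • y = y := by
        rw [eq_inv_of_mul_eq_one_left hu1, hS.inv_eq h2]
      have haz : a • z = z := by
        rw [hu] at hu1
        rw [eq_inv_of_mul_eq_one_left hu1, hS.inv_eq h2]
      refine ⟨⟨haT, hay⟩, ?_⟩
      rw [hz, hsmul a haT h hh] at haz
      exact smul_left_cancel h haz
    · rintro a ⟨⟨haT, hay⟩, haw⟩
      replace hay : a • y = y := hay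
      replace haw : a • w = w := haw
      exact ⟨haT, mem_stabilizer_iff.2 (by rw [smul_mul', hay, hz, hsmul a haT h hh, haw])⟩
  -- a minimal such intersection is a Frobenius complement of `T`
  let P : Subgroup H → Prop := fun A => A ≠ ⊥ ∧ (∃ y : V, y ≠ 1 ∧ A = T ⊓ stabilizer H y) ∧
    ∀ a ∈ T, (∀ g ∈ T, A ≤ stabilizer H (g • x) → a • g • x = g • x) → a ∈ A
  obtain ⟨I, ⟨hI0, ⟨y, hy, hIy⟩, hIc⟩, hImin⟩ :=
    (wellFounded_lt (α := Subgroup H)).has_min {A | P A} ⟨K, hK0, ⟨x, hx, rfl⟩, fun a ha h => by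
      have := h 1 (one_mem _) (by rw [one_smul]; exact inf_le_right)
      rw [one_smul] at this
      exact ⟨ha, this⟩⟩
  have hIT : I ≤ T := hIy ▸ inf_le_left
  have hdich : ∀ g ∈ T, I ⊓ stabilizer H (g • x) ≠ ⊥ → I ≤ stabilizer H (g • x) := by
    intro g hg hne
    obtain ⟨s, hs, hsI⟩ := hclaim y hy (hIy ▸ hI0) g hg
    rw [← hIy] at hsI
    by_contra hle
    refine hImin (I ⊓ stabilizer H (g • x)) ⟨hne, ⟨s, hs, hsI.symm⟩, fun a ha h => ⟨?_, ?_⟩⟩
      (lt_of_le_not_ge inf_le_left fun h => hle (h.trans inf_le_right))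
    · exact hIc a ha fun g' hg' hle' => h g' hg' (inf_le_left.trans hle')
    · exact mem_stabilizer_iff.2 (h g hg inf_le_right)
  have hTI : ∀ t ∈ T, I ⊓ cj t I ≠ ⊥ → t ∈ I := by
    intro t ht hne
    have hle : cj t⁻¹ I ≤ I := by
      intro a ha
      rw [mem_cj, inv_inv] at ha
      refine hIc a ?_ fun g hg hgle => ?_
      · have := T.mul_mem (T.mul_mem (T.inv_mem ht) (hIT ha)) ht
        simpa [mul_assoc] using this
      · have h1 : I ≤ stabilizer H ((t * g) • x) := hdich _ (T.mul_mem ht hg) fun h => hne (by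
          refine le_bot_iff.1 (le_trans (inf_le_inf_left I ?_) h.le)
          refine (cj_mono hgle).trans ?_
          rw [cj_stabilizer, mul_smul])
        have h2' := mem_stabilizer_iff.1 (h1 ha)
        rwa [← mul_smul, show t * a * t⁻¹ * (t * g) = t * (a * g) by group, mul_smul, mul_smul t g,
          smul_left_cancel_iff, mul_smul] at h2'
    have hn : t ∈ Subgroup.normalizer (I : Set H) := inv_mem_iff.1 (mem_normalizer_of_cj_le hle)
    rw [hIy] at hn ⊢
    exact ⟨ht, hself y hy (hIy ▸ hI0) t ht hn⟩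
  have hfrob : Cfsg.IsFrobeniusComplement (I.subgroupOf T) := by
    refine ⟨fun h => hI0 ?_, fun h => hy (hCV y ?_), fun g hg => ?_⟩
    · rw [Subgroup.subgroupOf_eq_bot, disjoint_iff, inf_eq_left.2 hIT] at h
      exact h
    · rw [Subgroup.subgroupOf_eq_top] at h
      exact h.trans (hIy.le.trans inf_le_right)
    · refine (Subgroup.eq_bot_iff_forall _).2 fun a ha => ?_
      obtain ⟨ha1, ha2⟩ := Subgroup.mem_inf.1 ha
      rw [Subgroup.mem_pointwise_smul_iff_inv_smul_mem] at ha2
      have h0 : I ⊓ cj (g : H) I = ⊥ := by_contra fun h => hg (hTI g g.2 h)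
      have : (a : H) ∈ I ⊓ cj (g : H) I := ⟨ha1, mem_cj.2 (by
        simpa [Subgroup.mem_subgroupOf, MulAut.smul_def] using ha2)⟩
      rw [h0, Subgroup.mem_bot] at this
      exact Subtype.ext this
  obtain ⟨N', -, hN', hcompl⟩ := Cfsg.Agent.S0035.result _ hfrob
  rcases IsSimpleGroup.eq_bot_or_eq_top_of_normal N' hN' with h | h <;> subst h
  · exact hfrob.2.1 (Subgroup.isComplement'_bot_left.1 hcompl)
  · exact hfrob.1 (Subgroup.isComplement'_top_left.1 hcompl)

/-- `H` is almost simple. -/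
theorem exists_simple_normal : ∃ T : Subgroup H, T.Normal ∧ IsSimpleGroup T ∧
    ¬ IsMulCommutative T ∧ Subgroup.centralizer (T : Set H) = ⊥ := by
  classical
  have htop : (⊤ : Subgroup H) ≠ ⊥ := fun h => hS.nonsolv (Group.isSolvable_of_top_eq_bot H h)
  obtain ⟨N₀, ⟨hN, hN0⟩, hNmin'⟩ := (wellFounded_lt (α := Subgroup H)).has_min
    {A | A.Normal ∧ A ≠ ⊥} ⟨⊤, inferInstance, htop⟩
  haveI := hN
  have hNmin : ∀ B : Subgroup H, B.Normal → B ≤ N₀ → B = ⊥ ∨ B = N₀ := fun B hB hle =>
    or_iff_not_imp_left.2 fun hB0 => hle.eq_of_not_lt (hNmin' B ⟨hB, hB0⟩)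
  have hC : Subgroup.centralizer (N₀ : Set H) = ⊥ := by
    by_contra hC0
    refine hN0 (hS.eq_bot_of_semiregular_normal h2 hN (fun v hv => ?_) hNmin)
    refine hS.eq_bot_of_le_stabilizer ?_ hv inf_le_right
    refine normal_of_le_normalizer (hS.sup_stabilizer inferInstance hC0 hv) (fun c hc => ?_) ?_
    · refine mem_normalizer_of_cj_le fun z hz => ?_
      rw [mem_cj] at hz
      have h1 := Subgroup.mem_centralizer_iff.1 hc _ hz.1
      have h3 : c⁻¹ * z * c = z := by
        rw [show c * (c⁻¹ * z * c) = z * c by group] at h1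
        exact mul_right_cancel h1
      rwa [h3] at hz
    · exact (le_inf (Subgroup.normalizer_eq_top (H := N₀) ▸ le_top) Subgroup.le_normalizer).trans
        Subgroup.inf_normalizer_le_normalizer_inf
  obtain ⟨T, ⟨hT0, hTle, hTN⟩, hTmin'⟩ := (wellFounded_lt (α := Subgroup H)).has_min
    {A | A ≠ ⊥ ∧ A ≤ N₀ ∧ N₀ ≤ Subgroup.normalizer (A : Set H)}
    ⟨N₀, hN0, le_rfl, Subgroup.le_normalizer⟩
  have hTmin : ∀ A : Subgroup H, A ≠ ⊥ → A ≤ T → N₀ ≤ Subgroup.normalizer (A : Set H) → A = T :=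
    fun A hA0 hle hnA => hle.eq_of_not_lt (hTmin' A ⟨hA0, hle.trans hTle, hnA⟩)
  have hcomm : ∀ g : H, cj g T ≠ T → ∀ a ∈ T, ∀ b ∈ cj g T, a * b = b * a := by
    intro g hg a ha b hb
    have hgle : cj g T ≤ N₀ := (cj_mono hTle).trans (cj_normal g hN).le
    have hgN : N₀ ≤ Subgroup.normalizer (cj g T : Set H) := fun n hn => by
      rw [mem_normalizer_iff_cj, ← cj_mul, show n * g = g * (g⁻¹ * n * g⁻¹⁻¹) by group,
        cj_mul g (g⁻¹ * n * g⁻¹⁻¹),
        mem_normalizer_iff_cj.1 (hTN (hN.conj_mem n hn g⁻¹))]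
    have hI : T ⊓ cj g T = ⊥ := by
      by_contra h0
      have := hTmin _ h0 inf_le_left
        ((le_inf hTN hgN).trans Subgroup.inf_normalizer_le_normalizer_inf)
      exact hg (Subgroup.eq_of_le_of_card_ge (inf_eq_left.1 this) (card_cj g T).le).symm
    have h1 : a * b * a⁻¹ * b⁻¹ ∈ T ⊓ cj g T := ⟨by
      have := T.mul_mem ha (((Subgroup.mem_normalizer_iff.1 (hTN (hgle hb))) a⁻¹).1 (T.inv_mem ha))
      simpa [mul_assoc] using this, (cj g T).mul_mem
        (((Subgroup.mem_normalizer_iff.1 (hgN (hTle ha))) b).1 hb) ((cj g T).inv_mem hb)⟩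
    rw [hI, Subgroup.mem_bot] at h1
    exact mul_inv_eq_iff_eq_mul.1 (mul_inv_eq_one.1 h1)
  have hgen : Subgroup.normalClosure (T : Set H) = N₀ :=
    (hNmin _ inferInstance (Subgroup.normalClosure_le_normal hTle)).resolve_left fun h =>
      hT0 (le_bot_iff.1 (Subgroup.le_normalClosure.trans h.le))
  have hgenle : ∀ P : Subgroup H, (∀ g : H, cj g T ≤ P) → N₀ ≤ P := by
    intro P hP
    rw [← hgen, Subgroup.normalClosure, Subgroup.closure_le]
    intro x hx
    obtain ⟨a, ha, hax⟩ := Group.mem_conjugatesOfSet_iff.1 hx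
    obtain ⟨c, hc⟩ := isConj_iff.1 hax
    exact hP c (hc ▸ conj_mem_cj ha)
  haveI : Nontrivial T := T.nontrivial_iff_ne_bot.2 hT0
  haveI hsimp : IsSimpleGroup T := ⟨fun S hSn => by
    rcases eq_or_ne (S.map T.subtype) ⊥ with h | h
    · exact Or.inl ((Subgroup.map_eq_bot_iff_of_injective S T.subtype_injective).1 h)
    right
    have hn : N₀ ≤ Subgroup.normalizer (S.map T.subtype : Set H) := by
      refine hgenle _ fun g b hb => mem_normalizer_of_cj_le ?_
      rintro z hz
      rw [mem_cj] at hz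
      obtain ⟨s, hs, hsz⟩ := hz
      by_cases hg : cj g T = T
      · rw [hg] at hb
        exact ⟨⟨b, hb⟩ * s * ⟨b, hb⟩⁻¹, hSn.conj_mem s hs _, by simp [show (s : H) = b⁻¹ * z * b from hsz, mul_assoc]⟩
      · have h1 := hcomm g hg s s.2 b hb
        rw [Subgroup.coe_subtype] at hsz
        refine ⟨s, hs, ?_⟩
        rw [Subgroup.coe_subtype]
        rw [hsz, show b * (b⁻¹ * z * b) = z * b by group] at h1
        exact hsz.trans (mul_right_cancel h1)
    have := hTmin _ h (Subgroup.map_subtype_le S) hn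
    exact Subgroup.map_injective T.subtype_injective (this.trans (by simp [← MonoidHom.range_eq_map]))⟩
  have hTc : ¬ IsMulCommutative T := by
    intro h
    refine hT0 (le_bot_iff.1 (hC ▸ Subgroup.le_centralizer_iff.1 (hgenle _ fun g b hb => ?_)))
    refine Subgroup.mem_centralizer_iff.2 fun a ha => ?_
    by_cases hg : cj g T = T
    · exact congrArg Subtype.val (mul_comm' (⟨a, ha⟩ : T) ⟨b, hg ▸ hb⟩)
    · exact hcomm g hg a ha b hb
  have hns : ¬ Group.IsSolvable T := fun h =>
    hTc ⟨⟨IsSimpleGroup.comm_iff_isSolvable.2 h⟩⟩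
  have hTn : T.Normal := hS.no_conjugates h2 hN hN0 hTle hT0 hTN hTmin hgen hns hcomm
  have hTeq : T = N₀ := (hNmin T hTn hTle).resolve_left hT0
  exact ⟨T, hTn, hsimp, hTc, hTeq ▸ hC⟩

end Setting

end CfsgLib.ExtremelyPrimitive
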